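import Groth.Agent.NRQuot.K764.Subm
import Groth.Agent.NRQuot.K990.Orbit
import Groth.Agent.GIT.K686.PrinQ

/-!
# Orbit spaces of free actions are geometric quotients
-/

set_option autoImplicit false
universe u
open CategoryTheory MonoidalCategory CartesianMonoidalCategory MonObj AlgebraicGeometry Topology Limits

namespace K764.GoodGeom

open K686 K686.OrbS K686.EtSlice Groth.Agent.Sga3.H775.ActGrpd Groth.Agent.GrpQ.H769.Sig
  Groth.Agent.GrpQ.H769.IsolFib

section

variable {k : Type u} [Field k] {G X Y : Over (Spec (CommRingCat.of k))} [GrpObj G]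

/-- the graph of a free action on `X` over `Y` is a closed immersion -/
theorem isClosedImmersion_PsiY [IsSeparated Y.hom] (a : AlgGrp.Action G X)
    (hfree : IsClosedImmersion (GIT.psi a (𝟙 X)).left) (φ : X ⟶ Y) (hi : GIT.IsInvariant a φ) :
    IsClosedImmersion (GIT.PsiY a φ hi) := by
  have hpsi : GIT.PsiY a φ hi ≫ K957.Bundle.toProd φ = (GIT.psi a (𝟙 X)).left :=
    K957.Bundle.psiY_toProd a φ hi
  have : IsClosedImmersion (GIT.PsiY a φ hi ≫ K957.Bundle.toProd φ) := by rw [hpsi]; exact hfree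
  exact IsClosedImmersion.of_comp _ (K957.Bundle.toProd φ)

/-- if rational points with the same image are conjugate then `PsiY` is surjective -/
theorem surjective_PsiY [IsAlgClosed k] [LocallyOfFiniteType X.hom] [LocallyOfFiniteType Y.hom]
    [IsSeparated Y.hom] (a : AlgGrp.Action G X)
    (hfree : IsClosedImmersion (GIT.psi a (𝟙 X)).left) (φ : X ⟶ Y) (hi : GIT.IsInvariant a φ)
    (hpts : ∀ x₁ x₂ : 𝟙_ (Over (Spec (CommRingCat.of k))) ⟶ X, x₁ ≫ φ = x₂ ≫ φ →
      ∃ g : 𝟙_ (Over (Spec (CommRingCat.of k))) ⟶ G, lift g x₁ ≫ a.act = x₂) :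
    Surjective (GIT.PsiY a φ hi) := by
  have hc := isClosedImmersion_PsiY a hfree φ hi
  let P : Over (Spec (CommRingCat.of k)) := Over.mk (pullback.fst φ.left φ.left ≫ X.hom)
  have hlft : LocallyOfFiniteType φ.left := by
    have h1 : LocallyOfFiniteType (φ.left ≫ Y.hom) := by rw [Over.w]; infer_instance
    exact locallyOfFiniteType_of_comp φ.left Y.hom
  have hP : LocallyOfFiniteType P.hom := by
    change LocallyOfFiniteType (pullback.fst φ.left φ.left ≫ X.hom)
    infer_instance
  have hJ : JacobsonSpace P.left := LocallyOfFiniteType.jacobsonSpace P.hom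
  let p₁ : P ⟶ X := Over.homMk (pullback.fst φ.left φ.left) rfl
  let p₂ : P ⟶ X := Over.homMk (pullback.snd φ.left φ.left) (by
    change pullback.snd φ.left φ.left ≫ X.hom = pullback.fst φ.left φ.left ≫ X.hom
    rw [← Over.w φ, pullback.condition_assoc])
  have hw : p₁ ≫ φ = p₂ ≫ φ := by
    ext1
    exact pullback.condition
  refine ⟨fun q₀ => ?_⟩
  by_contra hq₀
  obtain ⟨q, hq, hq'⟩ := nonempty_inter_closedPoints (X := P.left)
    (Z := (Set.range (GIT.PsiY a φ hi))ᶜ) ⟨q₀, fun h => hq₀ h⟩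
    (GIT.PsiY a φ hi).isClosedEmbedding.isClosed_range.isOpen_compl.isLocallyClosed
  obtain ⟨q, rfl⟩ := K990.NRQuot.exists_pt q hq'
  obtain ⟨g, hg⟩ := hpts (q ≫ p₂) (q ≫ p₁) (by rw [Category.assoc, Category.assoc, hw])
  apply hq
  have h1 : (lift g (q ≫ p₂)).left ≫ GIT.PsiY a φ hi = q.left := by
    apply pullback.hom_ext
    · rw [Category.assoc, GIT.PsiY, pullback.lift_fst, ← Over.comp_left, hg]
      rfl
    · rw [Category.assoc, GIT.PsiY, pullback.lift_snd, ← Over.comp_left, lift_snd]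
      rfl
  refine ⟨(lift g (q ≫ p₂)).left (IsLocalRing.closedPoint k), ?_⟩
  change ((lift g (q ≫ p₂)).left ≫ GIT.PsiY a φ hi) _ = q.left _
  rw [h1]

variable [LocallyOfFiniteType G.hom] [QuasiCompact G.hom]
  [LocallyOfFiniteType X.hom] [QuasiCompact X.hom] [QuasiCompact Y.hom] [IsSeparated Y.hom]

/-- orbit spaces are étale locally dominated by finite surjective morphisms -/
theorem exists_finite_cover (a : AlgGrp.Action G X) (hp : IsProper (GIT.psi a (𝟙 X)).left)
    (hj : LocallyQuasiFinite (GIT.psi a (𝟙 X)).left) (φ : X ⟶ Y) (hi : GIT.IsInvariant a φ)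
    (hsurj : Surjective φ.left) (horb : Surjective (GIT.PsiY a φ hi))
    (hs : ∀ U : Y.left.Opens,
      Function.Injective (φ.left.app U) ∧ Set.range (φ.left.app U) = {f | GIT.IsInvSection a φ U f})
    (y : Y.left) (hy : IsClosed ({y} : Set Y.left)) :
    ∃ (N : Scheme.{u}) (g : N ⟶ Y.left) (X' : Scheme.{u}) (pr : X' ⟶ X.left) (φ' : X' ⟶ N),
      Etale g ∧ y ∈ Set.range g ∧ IsPullback pr φ' φ.left g ∧ GIT.IsUnivSubmersive φ' := by
  have hS : IsLocallyNoetherian (Spec (CommRingCat.of k)) := inferInstance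
  have hflat : Flat G.hom := inferInstance
  have hcompS : CompactSpace (Spec (CommRingCat.of k)) := inferInstance
  have hXc : CompactSpace X.left := QuasiCompact.compactSpace_of_compactSpace X.hom
  have hXn : IsLocallyNoetherian X.left := LocallyOfFiniteType.isLocallyNoetherian X.hom
  have hφqc : QuasiCompact φ.left := K957.Bundle.quasiCompact_left φ
  have hφqs : QuasiSeparated φ.left := by
    have h1 : QuasiSeparatedSpace X.left := inferInstance
    have h2 : QuasiSeparated X.hom := (quasiSeparated_iff_quasiSeparatedSpace X.hom).mpr h1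
    have h3 : QuasiSeparated (φ.left ≫ Y.hom) := by rw [Over.w]; infer_instance
    exact QuasiSeparated.of_comp _ Y.hom
  have hGn : IsLocallyNoetherian G.left := LocallyOfFiniteType.isLocallyNoetherian G.hom
  have hGq : QuasiSeparatedSpace G.left := inferInstance
  have hGs : QuasiSeparated G.hom := (quasiSeparated_iff_quasiSeparatedSpace G.hom).mpr hGq
  have hpsi : GIT.PsiY a φ hi ≫ K957.Bundle.toProd φ = (GIT.psi a (𝟙 X)).left :=
    K957.Bundle.psiY_toProd a φ hi
  have hpY : IsProper (GIT.PsiY a φ hi) := by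
    have : IsProper (GIT.PsiY a φ hi ≫ K957.Bundle.toProd φ) := by rw [hpsi]; exact hp
    exact IsProper.of_comp _ (K957.Bundle.toProd φ)
  -- a closed point over `y`
  obtain ⟨x, hxy, hx⟩ := (hy.preimage φ.left.continuous).exists_closed_singleton (hsurj.surj y)
  have hx' : ClosedInFib X.hom x := by
    intro x' h1 _
    have h2 : x' ∈ closure {x} := specializes_iff_mem_closure.mp h1
    rw [hx.closure_eq] at h2
    exact h2
  obtain ⟨Z, u, hZ, hu, hfl, hqf, z, rfl⟩ := exists_slice a hj x hx'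
  have hqc : QuasiCompact (orb a u).left := by
    have h1 : CompactSpace (G ⊗ Z).left := by
      have h2 : QuasiCompact (snd G Z).left := inferInstanceAs (QuasiCompact (pullback.snd G.hom Z.hom))
      exact QuasiCompact.compactSpace_of_compactSpace (snd G Z).left
    infer_instance
  have hft : LocallyOfFiniteType (u ≫ φ).left := by
    rw [Over.comp_left]
    have h1 : LocallyOfFiniteType (φ.left ≫ Y.hom) := by rw [Over.w]; infer_instance
    have h2 : LocallyOfFiniteType φ.left := locallyOfFiniteType_of_comp φ.left Y.hom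
    infer_instance
  have hfin : ∀ y, ((u ≫ φ).left ⁻¹' {y}).Finite := finite_fibre hi horb
  have hlqf : LocallyQuasiFinite (u ≫ φ).left := LocallyQuasiFinite.of_finite_preimage_singleton _ hfin
  have hsep : IsSeparated (u ≫ φ).left := by
    have h1 : IsSeparated ((u ≫ φ).left ≫ Y.hom) := by
      rw [Over.w]
      infer_instance
    exact IsSeparated.of_comp _ Y.hom
  obtain ⟨T, g, X₁, pr, φ₁, hX, a₁, V, v, w, hg, ha₁, hi₁, h1, h2, h3, h4⟩ :=
    exists_finite_slice a u hi hpY z ((u ≫ φ).left.quasiFiniteAt z)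
  have hX₁n : IsLocallyNoetherian X₁.left := by
    have : LocallyOfFiniteType pr.left := by
      have : LocallyOfFiniteType g.left := inferInstance
      exact MorphismProperty.of_isPullback (isPullback_left hX).flip this
    exact LocallyOfFiniteType.isLocallyNoetherian pr.left
  -- the image of the orbit morphism
  have hopen : IsOpen (Set.range (orb a₁ v).left) := (orb a₁ v).left.isOpenMap.isOpen_range
  have hclosed : IsClosed (Set.range (orb a₁ v).left) := (orb a₁ v).left.isClosedMap.isClosed_range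
  have hpY₁ : Surjective (GIT.PsiY a₁ φ₁ hi₁) :=
    MorphismProperty.of_isPullback (GeomBase.isPullback_PsiY hX a₁ ha₁ hi hi₁) horb
  have hφ₁ : Surjective φ₁.left := MorphismProperty.of_isPullback (isPullback_left hX) hsurj
  have hinv : a₁.act.left ⁻¹' Set.range (orb a₁ v).left = (snd G X₁).left ⁻¹' Set.range (orb a₁ v).left := by
    apply Set.Subset.antisymm
    · intro r hr
      have e1 : (snd G X₁).left ((ivr a₁).left r) = a₁.act.left r := by
        rw [← Scheme.Hom.comp_apply, ← Over.comp_left, ivr_snd]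
      have e2 : a₁.act.left ((ivr a₁).left r) = (snd G X₁).left r := by
        rw [← Scheme.Hom.comp_apply, ← Over.comp_left, ivr_act]
      have h5 := orb_invariant a₁ v ((ivr a₁).left r) (by rw [e1]; exact hr)
      rw [e2] at h5
      exact h5
    · intro r hr
      exact orb_invariant a₁ v r hr
  have hs₁ := K764.Subm.sections_flat hi hs hX a₁ ha₁ hi₁ ⊤
  obtain ⟨N, hN⟩ := K764.Subm.exists_open_of_clopen hs₁ _ ⟨hclosed, hopen⟩ hinv
  have hE : ∀ z : V.left, v.left z ∈ Set.range (orb a₁ v).left := by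
    intro z
    refine ⟨(lift (toUnit V ≫ η[G]) (𝟙 V)).left z, ?_⟩
    rw [← Scheme.Hom.comp_apply, ← Over.comp_left]
    have : lift (toUnit V ≫ η[G]) (𝟙 V) ≫ orb a₁ v = v := by
      have h5 := lift_one_act a₁ v
      rw [orb, lift_whiskerLeft_assoc, Category.id_comp]
      exact h5
    rw [this]
  have hwN : ∀ z : V.left, (v ≫ φ₁).left z ∈ N := by
    intro z
    have h5 := hE z
    rw [← hN] at h5
    exact h5
  -- `V ⟶ N` is finite and surjective
  have hsN : ∀ n ∈ N, ∃ z : V.left, (v ≫ φ₁).left z = n := by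
    intro n hn
    obtain ⟨x, rfl⟩ := hφ₁.surj n
    have h5 : x ∈ Set.range (orb a₁ v).left := by
      rw [← hN]
      exact hn
    obtain ⟨r, rfl⟩ := h5
    refine ⟨(snd G V).left r, ?_⟩
    have h6 : orb a₁ v ≫ φ₁ = snd G V ≫ v ≫ φ₁ := by
      rw [orb, Category.assoc, hi₁, whiskerLeft_snd_assoc]
    rw [← Scheme.Hom.comp_apply, ← Scheme.Hom.comp_apply, ← Over.comp_left, ← Over.comp_left, h6]
  -- restrict to `N`
  let v' : V.left ⟶ (φ₁.left ⁻¹ᵁ N : X₁.left.Opens) := IsOpenImmersion.lift (φ₁.left ⁻¹ᵁ N).ι v.left (by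
    rintro _ ⟨z, rfl⟩
    rw [Scheme.Opens.range_ι]
    exact hwN z)
  have hv' : v' ≫ (φ₁.left ⁻¹ᵁ N).ι = v.left := IsOpenImmersion.lift_fac _ _ _
  have hv'' : (v' ≫ (φ₁.left ∣_ N)) ≫ N.ι = (v ≫ φ₁).left := by
    rw [Category.assoc, morphismRestrict_ι, reassoc_of% hv']
    rfl
  have hfin' : IsFinite (v' ≫ (φ₁.left ∣_ N)) := by
    have h5 : IsFinite ((v' ≫ (φ₁.left ∣_ N)) ≫ N.ι) := by rw [hv'']; exact h3
    exact IsFinite.of_comp _ N.ι
  have hsurj' : Surjective (v' ≫ (φ₁.left ∣_ N)) := by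
    refine ⟨fun n => ?_⟩
    obtain ⟨z, hz⟩ := hsN n.1 n.2
    refine ⟨z, ?_⟩
    apply N.ι.isOpenEmbedding.injective
    change ((v' ≫ (φ₁.left ∣_ N)) ≫ N.ι) z = _
    rw [hv'']
    exact hz
  refine ⟨N.toScheme, N.ι ≫ g.left, (φ₁.left ⁻¹ᵁ N).toScheme, (φ₁.left ⁻¹ᵁ N).ι ≫ pr.left, φ₁.left ∣_ N,
    inferInstance, ?_, ?_, ?_⟩
  · refine ⟨⟨_, hwN w⟩, ?_⟩
    have e : (u ≫ φ).left z = φ.left (u.left z) := by rw [← Scheme.Hom.comp_apply]; rfl
    have hxy' : φ.left (u.left z) = y := hxy
    rw [← hxy', ← e, ← h4]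
    rfl
  · exact (isPullback_morphismRestrict φ₁.left N).flip.paste_horiz (isPullback_left hX)
  · exact K764.Subm.univSubm_of_factor v' (φ₁.left ∣_ N)

/-- orbit spaces with the right sections are geometric quotients -/
theorem isGeomQuot (a : AlgGrp.Action G X) (hp : IsProper (GIT.psi a (𝟙 X)).left)
    (hj : LocallyQuasiFinite (GIT.psi a (𝟙 X)).left) (φ : X ⟶ Y) (hi : GIT.IsInvariant a φ)
    (hsurj : Surjective φ.left) (horb : Surjective (GIT.PsiY a φ hi))
    (hs : ∀ U : Y.left.Opens,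
      Function.Injective (φ.left.app U) ∧ Set.range (φ.left.app U) = {f | GIT.IsInvSection a φ U f}) :
    GIT.IsGeomQuot a φ where
  inv := hi
  surj := hsurj.surj
  orbit := horb.surj
  sections := hs
  subm := by
    have hYc : CompactSpace Y.left := QuasiCompact.compactSpace_of_compactSpace Y.hom
    refine K764.Subm.univSubm_of_etale_local φ.left fun y => ?_
    obtain ⟨y₀, hy₀, hc⟩ := (isClosed_closure (s := {y})).exists_closed_singleton ⟨y, subset_closure rfl⟩
    obtain ⟨N, g, X', pr, φ', hg, hyr, h1, h2⟩ := exists_finite_cover a hp hj φ hi hsurj horb hs y₀ hc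
    refine ⟨N, g, X', pr, φ', hg, ?_, h1, h2⟩
    have h3 : y ⤳ y₀ := specializes_iff_mem_closure.mpr hy₀
    exact h3.mem_open g.isOpenMap.isOpen_range hyr

end

end K764.GoodGeom
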