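import Groth.Agent.GIT.K686.EtSlice
import Groth.Agent.Pi1C.IdemCrit

/-!
# Universally submersive morphisms, étale locally on the base

`univSubm_of_etale_local`, `univSubm_of_factor`, `sections_flat`, `exists_open_slice`.
-/

set_option autoImplicit false
universe u
open CategoryTheory MonoidalCategory CartesianMonoidalCategory MonObj AlgebraicGeometry Topology Limits

namespace K764.Subm

open K686

/-- being universally submersive can be checked étale locally on the base -/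
theorem univSubm_of_etale_local {X Y : Scheme.{u}} (f : X ⟶ Y)
    (H : ∀ y : Y, ∃ (N : Scheme.{u}) (g : N ⟶ Y) (X' : Scheme.{u}) (pr : X' ⟶ X) (f' : X' ⟶ N),
      Etale g ∧ y ∈ Set.range g ∧ IsPullback pr f' f g ∧ GIT.IsUnivSubmersive f') :
    GIT.IsUnivSubmersive f := by
  intro X'' Y'' i₁ i₂ f'' hpb
  have key : ∀ y : Y'', ∃ (P : Scheme.{u}) (p : P ⟶ Y'') (Q : Scheme.{u}) (q : Q ⟶ X'') (r : Q ⟶ P),
      Etale p ∧ y ∈ Set.range p ∧ q ≫ f'' = r ≫ p ∧ IsQuotientMap r := by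
    intro y
    obtain ⟨N, g, X', pr, f', hg, ⟨n, hn⟩, hX', hf'⟩ := H (i₂ y)
    obtain ⟨z, hz, -⟩ := Scheme.Pullback.exists_preimage_pullback (f := i₂) (g := g) y n hn.symm
    refine ⟨pullback i₂ g, pullback.fst i₂ g, pullback f'' (pullback.fst i₂ g), pullback.fst _ _,
      pullback.snd _ _, inferInstance, ⟨z, hz⟩, pullback.condition, ?_⟩
    have h1 : IsPullback (pullback.fst f'' (pullback.fst i₂ g)) (pullback.snd f'' (pullback.fst i₂ g)) f''
      (pullback.fst i₂ g) := IsPullback.of_hasPullback _ _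
    have h2 : IsPullback (pullback.fst f'' (pullback.fst i₂ g) ≫ i₁) (pullback.snd f'' (pullback.fst i₂ g)) f
        (pullback.fst i₂ g ≫ i₂) := h1.paste_horiz hpb.flip
    have h3 : pullback.fst i₂ g ≫ i₂ = pullback.snd i₂ g ≫ g := pullback.condition
    rw [h3] at h2
    let t : pullback f'' (pullback.fst i₂ g) ⟶ X' := hX'.lift (pullback.fst _ _ ≫ i₁)
      (pullback.snd _ _ ≫ pullback.snd i₂ g) (by rw [h2.w, Category.assoc])
    have ht1 : t ≫ pr = pullback.fst _ _ ≫ i₁ := hX'.lift_fst _ _ _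
    have ht2 : t ≫ f' = pullback.snd _ _ ≫ pullback.snd i₂ g := hX'.lift_snd _ _ _
    have h4 : IsPullback t (pullback.snd f'' (pullback.fst i₂ g)) f' (pullback.snd i₂ g) := by
      refine IsPullback.of_right ?_ ht2 hX'
      rw [ht1]
      exact h2
    exact hf' _ _ _ h4.flip
  change IsQuotientMap f''
  suffices h0 : Function.Surjective f'' ∧ ∀ s : Set Y'', IsOpen (f'' ⁻¹' s) → IsOpen s from
    (isQuotientMap_iff _).mpr ⟨isCoinducing_iff.mpr fun s => ⟨h0.2 s, fun hs => hs.preimage f''.continuous⟩, h0.1⟩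
  refine ⟨fun y => ?_, fun s hs => ?_⟩
  · obtain ⟨P, p, Q, q, r, hp, ⟨z, hz⟩, hw, hr⟩ := key y
    obtain ⟨w, hw'⟩ := hr.surjective z
    refine ⟨q w, ?_⟩
    rw [← Scheme.Hom.comp_apply, hw, Scheme.Hom.comp_apply, hw', hz]
  · rw [isOpen_iff_forall_mem_open]
    intro y hy
    obtain ⟨P, p, Q, q, r, hp, ⟨z, hz⟩, hw, hr⟩ := key y
    refine ⟨p '' (p ⁻¹' s), Set.image_preimage_subset _ _, ?_, ⟨z, by rw [Set.mem_preimage, hz]; exact hy, hz⟩⟩
    apply p.isOpenMap
    rw [← hr.isOpen_preimage]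
    have h5 : r ⁻¹' (p ⁻¹' s) = q ⁻¹' (f'' ⁻¹' s) := by
      ext w
      change p (r w) ∈ s ↔ f'' (q w) ∈ s
      rw [← Scheme.Hom.comp_apply, ← Scheme.Hom.comp_apply, hw]
    rw [h5]
    exact hs.preimage q.continuous

/-- morphisms dominated by a finite surjective morphism are universally submersive -/
theorem univSubm_of_factor {V X Y : Scheme.{u}} (v : V ⟶ X) (f : X ⟶ Y) [IsFinite (v ≫ f)]
    [Surjective (v ≫ f)] : GIT.IsUnivSubmersive f := by
  intro X'' Y'' i₁ i₂ f'' hpb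
  have h1 : IsPullback (pullback.fst v i₁) (pullback.snd v i₁) v i₁ := IsPullback.of_hasPullback _ _
  have h2 := h1.paste_vert hpb.flip
  have h3 : IsFinite (pullback.snd v i₁ ≫ f'') := MorphismProperty.of_isPullback h2 ‹_›
  have h4 : Surjective (pullback.snd v i₁ ≫ f'') := MorphismProperty.of_isPullback h2 ‹_›
  have h5 : IsQuotientMap (pullback.snd v i₁ ≫ f'') :=
    (pullback.snd v i₁ ≫ f'').isClosedMap.isQuotientMap (pullback.snd v i₁ ≫ f'').continuous h4.surj
  have h6 : IsQuotientMap (f'' ∘ pullback.snd v i₁) := h5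
  exact IsQuotientMap.of_comp (pullback.snd v i₁).continuous f''.continuous h6

section

variable {S : Scheme.{u}} {G : Over S} [GrpObj G] {X Y : Over S} {a : AlgGrp.Action G X} {φ : X ⟶ Y}

/-- a morphism with the right sections is an affine quotient over each open of the base -/
theorem isAffQuot_W (hi : GIT.IsInvariant a φ) (hs : ∀ U : Y.left.Opens,
      Function.Injective (φ.left.app U) ∧ Set.range (φ.left.app U) = {f | GIT.IsInvSection a φ U f})
    (W : Y.left.Opens) : IsAffQuot (bcAct (isPullback_W φ W) a hi) (φW φ W) := by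
  refine ⟨bcAct_inv _ _ _, ?_, Set.Subset.antisymm ?_ ?_⟩
  · intro f g hfg
    obtain ⟨f, rfl⟩ := (IsLocQuot.ρ_bijective Y W).2 f
    obtain ⟨g, rfl⟩ := (IsLocQuot.ρ_bijective Y W).2 g
    rw [← IsLocQuot.ρ_app, ← IsLocQuot.ρ_app] at hfg
    rw [(hs W).1 ((IsLocQuot.ρ_bijective X _).1 hfg)]
  · rintro _ ⟨r, rfl⟩
    exact IsAffQuot.inv_app (bcAct_inv _ _ _) r
  · intro f hf
    obtain ⟨f, rfl⟩ := (IsLocQuot.ρ_bijective X (φ.left ⁻¹ᵁ W)).2 f
    have h1 : f ∈ Set.range (φ.left.app W) := by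
      rw [(hs W).2]
      exact (GeomBase.inv_ρ_iff hi W f).mpr hf
    obtain ⟨g, rfl⟩ := h1
    exact ⟨IsLocQuot.ρ Y W g, (IsLocQuot.ρ_app φ W g).symm⟩

/-- flat base change of the description of the sections -/
theorem sections_flat (hi : GIT.IsInvariant a φ) (hs : ∀ U : Y.left.Opens,
      Function.Injective (φ.left.app U) ∧ Set.range (φ.left.app U) = {f | GIT.IsInvSection a φ U f})
    {X' Y' : Over S} {pr : X' ⟶ X} {φ' : X' ⟶ Y'} {g : Y' ⟶ Y}
    [Flat g.left] [QuasiCompact φ.left] [QuasiSeparated φ.left] [QuasiCompact G.hom] [QuasiSeparated G.hom]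
    (hp : IsPullback pr φ' φ g) (a' : AlgGrp.Action G X') (ha' : a'.act ≫ pr = (G ◁ pr) ≫ a.act)
    (hi' : GIT.IsInvariant a' φ') (U : Y'.left.Opens) :
      Function.Injective (φ'.left.app U) ∧ Set.range (φ'.left.app U) = {f | GIT.IsInvSection a' φ' U f} := by
  refine GeomBase.sections_of_basis hi' ?_ U
  intro W' y' hy'
  obtain ⟨W, hW, hy, -⟩ := exists_isAffineOpen_mem_and_subset (U := ⊤) (x := g.left y') (Set.mem_univ _)
  obtain ⟨V', hV', hyV', hle⟩ := exists_isAffineOpen_mem_and_subset (U := W' ⊓ g.left ⁻¹ᵁ W) (x := y')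
    ⟨hy', hy⟩
  refine ⟨V', hyV', fun x hx => (hle hx).1, ?_⟩
  obtain ⟨r, hrq, hr⟩ := GeomBase.isPullback_WW hp W V' (fun x hx => (hle hx).2)
  have h1 := isAffQuot_W hi hs W
  have : IsAffine (YW Y W).left := hW
  have : IsAffine (YW Y' V').left := hV'
  have e1 : QuasiCompact (φW φ W).left := inferInstanceAs (QuasiCompact (φ.left ∣_ W))
  have e2 : QuasiSeparated (φW φ W).left := inferInstanceAs (QuasiSeparated (φ.left ∣_ W))
  have e3 : Flat (GeomBase.qWW g W V' (fun x hx => (hle hx).2)).left :=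
    inferInstanceAs (Flat (g.left.resLE W V' _))
  have e4 : QuasiCompact (snd G (YW X (φ.left ⁻¹ᵁ W))).left :=
    inferInstanceAs (QuasiCompact (Limits.pullback.snd G.hom _))
  have e5 : QuasiSeparated (snd G (YW X (φ.left ⁻¹ᵁ W))).left :=
    inferInstanceAs (QuasiSeparated (Limits.pullback.snd G.hom _))
  refine h1.flat_baseChange r (φW φ' V') _ (isPullback_left hrq) _ ?_ (bcAct_inv _ _ _)
  have hm : Mono (iW X (φ.left ⁻¹ᵁ W)) := inferInstanceAs (Mono (K957.Restr.iU (φ.left ⁻¹ᵁ W)))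
  rw [← cancel_mono (iW X (φ.left ⁻¹ᵁ W)), Category.assoc, Category.assoc, hr, bcAct_pr, ← Category.assoc,
    bcAct_pr, Category.assoc, ha', ← MonoidalCategory.whiskerLeft_comp_assoc,
    ← MonoidalCategory.whiskerLeft_comp_assoc, hr]

/-- invariant clopen subsets are preimages of open subsets -/
theorem exists_open_of_clopen (hs : Function.Injective (φ.left.app ⊤) ∧
      Set.range (φ.left.app ⊤) = {f | GIT.IsInvSection a φ ⊤ f}) (E : Set X.left) (hE : IsClopen E)
    (hinv : a.act.left ⁻¹' E = (snd G X).left ⁻¹' E) :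
    ∃ N : Y.left.Opens, (φ.left ⁻¹ᵁ N : Set X.left) = E := by
  obtain ⟨e, he, hE'⟩ := Groth.Agent.Pi1C.IdemCrit.exists_idem_of_isClopen hE
  have h1 : (e : Γ(X.left, φ.left ⁻¹ᵁ ⊤)) ∈ {f | GIT.IsInvSection a φ ⊤ f} := by
    have h2 : a.act.left.appTop e = (snd G X).left.appTop e := by
      apply Groth.Agent.Pi1C.IdemCrit.idem_ext
      · rw [← map_mul, he]
      · rw [← map_mul, he]
      · rw [← Scheme.preimage_basicOpen_top, ← Scheme.preimage_basicOpen_top]
        change a.act.left ⁻¹' (X.left.basicOpen e : Set X.left) = (snd G X).left ⁻¹' (X.left.basicOpen e : Set X.left)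
        rw [hE', hinv]
    change GIT.IsInvSection a φ ⊤ e
    have h3 : (G ⊗ X).left.presheaf.map (homOfLE (le_top : (a.act.left ⁻¹ᵁ (φ.left ⁻¹ᵁ ⊤) ⊓
        (snd G X).left ⁻¹ᵁ (φ.left ⁻¹ᵁ ⊤)) ≤ ⊤)).op (a.act.left.appTop e) =
        (G ⊗ X).left.presheaf.map (homOfLE (le_top : (a.act.left ⁻¹ᵁ (φ.left ⁻¹ᵁ ⊤) ⊓
        (snd G X).left ⁻¹ᵁ (φ.left ⁻¹ᵁ ⊤)) ≤ ⊤)).op ((snd G X).left.appTop e) := by
      rw [h2]
    exact h3
  rw [← hs.2] at h1
  obtain ⟨e', he'⟩ := h1
  refine ⟨Y.left.basicOpen e', ?_⟩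
  rw [← hE', ← he']
  have h4 := Scheme.preimage_basicOpen φ.left e'
  exact congrArg (fun U : X.left.Opens => (U : Set X.left)) h4

end

end K764.Subm
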