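import Groth.Agent.SGA3x.K764.QAffOrbit
import Groth.Agent.NRQuot.K990.Orbit
import Groth.Agent.GIT.K686.BcAct
import Groth.Agent.PRed.K543.UnipPts
import Groth.Prelude.Def_ChGrp
import Groth.Agent.Books.AffBridge2
import Groth.Agent.Books.AlgPtsSmooth

/-!
# Good quotients by unipotent groups: the orbits are closed
-/

set_option autoImplicit false
universe u
open CategoryTheory MonoidalCategory CartesianMonoidalCategory MonObj GrpObj AlgebraicGeometry

namespace K764.NRUnip

open Groth.Agent Groth.Agent.Books.BorelOrb Groth.Agent.Books.AffBridge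

variable {k : Type u} [Field k]

/-- Over an algebraically closed field, smooth connected affine groups without subtori are unipotent. -/
theorem exists_isUnipotent [IsAlgClosed k] (G : Over (Spec (CommRingCat.of k))) [GrpObj G] [IsAffine G.left]
    [Smooth G.hom] [ConnectedSpace G.left] (hG : Red.HasNoSubtorus k G) :
    ∃ (A : Type u) (_ : CommRing A) (_ : HopfAlgebra k A) (e : SpecOver k A ≅ G),
      IsMonHom e.hom ∧ Algebra.Smooth k A ∧ HopfRep.IsUnipotent k A := by
  obtain ⟨A, _, _, e, he⟩ := exists_hopf k G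
  have hiso : IsIso e.hom.left := inferInstanceAs (IsIso ((Over.forget _).map e.hom))
  have hiso' : IsIso e.inv.left := inferInstanceAs (IsIso ((Over.forget _).map e.inv))
  have hsm : Smooth (SpecOver k A).hom := by
    have h : (SpecOver k A).hom = e.inv.left ≫ G.hom := (Over.w e.inv).symm
    rw [h]; infer_instance
  have hcon : ConnectedSpace ↥(SpecOver k A).left :=
    (Scheme.homeoOfIso (asIso e.hom.left)).surjective.connectedSpace
      (Scheme.homeoOfIso (asIso e.hom.left)).continuous
  have hs := (Books.AffBridge2.smooth_specOver_iff k A).1 hsm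
  refine ⟨A, inferInstance, inferInstance, e.symm, inferInstanceAs (IsMonHom e.inv), hs, ?_⟩
  have h1 := Sga3B.RadOpen.hasNoSubtorus_of_iso e hG
  have hint : IsIntegral (SpecOver k A).left := (Books.AlgPtsSmooth.isVar_of_smooth (SpecOver k A)).1
  have hred : _root_.IsReduced A := by
    have h : IsIntegral (Spec (CommRingCat.of A)) := hint
    have h' := (affine_isReduced_iff (CommRingCat.of A)).1 inferInstance
    exact h'
  have hci : IsClosedImmersion (𝟙 (SpecOver k A) : SpecOver k A ⟶ SpecOver k A).left := by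
    rw [Over.id_left]; infer_instance
  have h2 := Sga3B.RadOpen.isUnip_of_hasNoSubtorus (𝟙 (SpecOver k A)) h1
  apply K543.UnipHopf.isUnipotent_of_isUnip
  intro g
  exact h2 g ⟨Sga3B.RG.BrPts.ptEquiv _ _ g, Category.comp_id _⟩

variable {A : Type u} [CommRing A] [HopfAlgebra k A] {G X Y : Over (Spec (CommRingCat.of k))} [GrpObj G]

theorem isClosed_range_orbitMap_of_iso (hU : HopfRep.IsUnipotent k A) (e : SpecOver k A ≅ G) [IsMonHom e.hom]
    (a : AlgGrp.Action G X) (x : 𝟙_ (Over (Spec (CommRingCat.of k))) ⟶ X) [X.left.IsQuasiAffine] :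
    IsClosed (Set.range (a.orbitMap x).left.base) := by
  have h1 := K764.QAffOrbit.isClosed_range_orbitMap (AlgGrp.Action.restrict e.hom a) x hU
  have h2 : (AlgGrp.Action.restrict e.hom a).orbitMap x = e.hom ≫ a.orbitMap x := by
    rw [comp_orbitMap, AlgGrp.Action.orbitMap]
    change lift (𝟙 _) (toUnit _ ≫ x) ≫ (e.hom ▷ X ≫ a.act) = _
    rw [lift_whiskerRight_assoc, Category.id_comp]
    rfl
  have h3 : Set.range ((AlgGrp.Action.restrict e.hom a).orbitMap x).left.base =
      Set.range (a.orbitMap x).left.base := by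
    rw [h2]
    apply subset_antisymm
    · rintro _ ⟨g, rfl⟩
      exact ⟨e.hom.left.base g, rfl⟩
    · rintro _ ⟨g, rfl⟩
      have h4 : (e.inv ≫ e.hom ≫ a.orbitMap x).left.base g = (a.orbitMap x).left.base g := by
        rw [Iso.inv_hom_id_assoc]
      exact ⟨e.inv.left.base g, h4⟩
  rw [← h3]
  exact h1

/-- The orbits of a unipotent group on the source of an affine invariant morphism are closed. -/
theorem isClosed_orb_of_affine (hU : HopfRep.IsUnipotent k A) (e : SpecOver k A ≅ G) [IsMonHom e.hom]
    (a : AlgGrp.Action G X) (φ : X ⟶ Y) [IsAffineHom φ.left] (hφ : GIT.IsInvariant a φ)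
    (x : 𝟙_ (Over (Spec (CommRingCat.of k))) ⟶ X) :
    IsClosed (Set.range (a.orbitMap x).left.base) := by
  let F : Over (Spec (CommRingCat.of k)) := Over.mk (Limits.pullback.snd φ.left (x ≫ φ).left)
  let φ' : F ⟶ 𝟙_ (Over (Spec (CommRingCat.of k))) := Over.homMk (Limits.pullback.snd φ.left (x ≫ φ).left)
    (Category.comp_id _)
  have hw : Limits.pullback.fst φ.left (x ≫ φ).left ≫ X.hom = Limits.pullback.snd φ.left (x ≫ φ).left := by
    have h1 : X.hom = φ.left ≫ Y.hom := (Over.w φ).symm
    rw [h1, Limits.pullback.condition_assoc]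
    have h2 : (x ≫ φ).left ≫ Y.hom = 𝟙 _ := Over.w (x ≫ φ)
    rw [h2]
    exact Category.comp_id _
  let pr : F ⟶ X := Over.homMk (Limits.pullback.fst φ.left (x ≫ φ).left) hw
  have hp : IsPullback pr φ' φ (x ≫ φ) := K686.isPullback_over (IsPullback.of_hasPullback _ _)
  let x' : 𝟙_ (Over (Spec (CommRingCat.of k))) ⟶ F := hp.lift x (𝟙 _) (by rw [Category.id_comp])
  have hx' : x' ≫ pr = x := hp.lift_fst _ _ _
  have hF : IsAffine F.left := by
    have h1 : IsAffineHom (Limits.pullback.snd φ.left (x ≫ φ).left) :=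
      inferInstanceAs (IsAffineHom (Limits.pullback.snd φ.left (show Spec (CommRingCat.of k) ⟶ Y.left from (x ≫ φ).left)))
    have h2 : IsAffine (𝟙_ (Over (Spec (CommRingCat.of k)))).left := inferInstanceAs (IsAffine (Spec (CommRingCat.of k)))
    exact isAffine_of_isAffineHom (Limits.pullback.snd φ.left (x ≫ φ).left)
  have hcl : IsClosedImmersion (x ≫ φ).left := by
    have h1 : (x ≫ φ).left ≫ Y.hom = 𝟙 (Spec (CommRingCat.of k)) := Over.w (x ≫ φ)
    exact isClosedImmersion_of_comp_eq_id Y.hom (x ≫ φ).left h1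
  have hpr : IsClosedImmersion pr.left := inferInstanceAs (IsClosedImmersion (Limits.pullback.fst φ.left (x ≫ φ).left))
  have h3 := isClosed_range_orbitMap_of_iso hU e (K686.bcAct hp a hφ) x'
  have h4 : (K686.bcAct hp a hφ).orbitMap x' ≫ pr = a.orbitMap x := by
    rw [AlgGrp.Action.orbitMap, Category.assoc, K686.bcAct_pr, AlgGrp.Action.orbitMap, lift_whiskerLeft_assoc,
      Category.assoc, hx']
  have h5 : Set.range (a.orbitMap x).left.base = pr.left.base '' Set.range ((K686.bcAct hp a hφ).orbitMap x').left.base := by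
    rw [← h4, ← Set.range_comp]
    rfl
  rw [h5]
  exact pr.left.isClosedEmbedding.isClosedMap _ h3

end K764.NRUnip
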